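/-
An element of prime order with one irreducible block and no twisted commutant.
-/
import Cfsg.Agent.ClMax99.SimForm

set_option autoImplicit false
set_option linter.unusedSectionVars false

namespace Cfsg.Agent.Subfield77

open Polynomial
open Cfsg.Agent.ClMax99 Cfsg.Agent.ClMax99.SimForm

variable {F : Type*} [Field F] [Fintype F] {σ : F →+* F} {r : ℕ} [hr : Fact r.Prime]

/-- Such an element has no twisted commutant unless `q₀` is a power of `q` modulo `r`. -/
theorem exists_block_not_twist {p : ℕ} [Fact p.Prime] [CharP F p] (hrF : (r : F) ≠ 0) (hr1 : ¬ r ∣ Fintype.card F - 1)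
    {n : ℕ} (hn : orderOf (Fintype.card F : ZMod r) ≤ n) {k₀ : ℕ} (hσ : ∀ a, σ a = a ^ p ^ k₀)
    (hno : ∀ k : ℕ, (Fintype.card F : ZMod r) ^ k * (p : ZMod r) ^ k₀ ≠ 1) :
    ∃ x : Matrix (Fin n) (Fin n) F, x.det = 1 ∧ x ^ r = 1 ∧ (∀ z : F, x ≠ z • 1) ∧
      ∀ (A : Matrix (Fin n) (Fin n) F) (ε : F), A.det ≠ 0 → ε ≠ 0 → x.map σ * A ≠ ε • (A * x) := by
  classical
  obtain ⟨x, g, hg, hxd, hxr, hxs, hgi, hαr, hα1, hx0, hxα⟩ := exists_block hrF hr1 hn
  refine ⟨x, hxd, hxr, hxs, fun A ε hA hε hc => ?_⟩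
  have hn0 : Nonempty (Fin n) := by
    by_contra hne
    rw [not_nonempty_iff] at hne
    exact hxs 0 (Subsingleton.elim _ _)
  have hA0 : A ≠ 0 := fun e => hA (by rw [e, Matrix.det_zero])
  have hε1 : ε = 1 := by
    have hk : ∀ j : ℕ, (x.map σ) ^ j * A = ε ^ j • (A * x ^ j) := fun j => by
      induction j with
      | zero => simp
      | succ j ih =>
        rw [pow_succ', mul_assoc, ih, Matrix.mul_smul, ← mul_assoc, hc, Matrix.smul_mul, smul_smul, mul_assoc,
          ← pow_succ', ← pow_succ]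
    have h1 := hk r
    rw [show (x.map σ) ^ r = (x ^ r).map σ from (map_pow σ.mapMatrix x r).symm, hxr,
      Matrix.map_one _ (map_zero σ) (map_one σ), one_mul, mul_one] at h1
    have h2 : ε ^ r = 1 := smul_left_injective F hA0 (show ε ^ r • A = (1 : F) • A by rw [one_smul]; exact h1.symm)
    have h3 := pow_gcd_eq_one.mpr ⟨h2, FiniteField.pow_card_sub_one_eq_one _ hε⟩
    rwa [show Nat.gcd r (Fintype.card F - 1) = 1 from (hr.out.coprime_iff_not_dvd).mpr hr1, pow_one] at h3
  rw [hε1, one_smul] at hc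
  have hpoly : ∀ P : F[X], aeval (x.map σ) P * A = A * aeval x P := by
    intro P
    induction P using Polynomial.induction_on' with
    | add P Q hP hQ => simp only [map_add, mul_add, add_mul, hP, hQ]
    | monomial k a =>
      have hk : ∀ j : ℕ, x.map σ ^ j * A = A * x ^ j := fun j => by
        induction j with
        | zero => simp
        | succ j ih => rw [pow_succ', mul_assoc, ih, ← mul_assoc, hc, mul_assoc, ← pow_succ']
      rw [aeval_monomial, aeval_monomial, ← Algebra.smul_def, ← Algebra.smul_def, Matrix.smul_mul, hk, Matrix.mul_smul]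
  set P₁ := (X - 1) * g
  have h0 : aeval (x.map σ) (P₁.map σ) = 0 := by
    have h1 : ∀ P : F[X], aeval (x.map σ) (P.map σ) = (aeval x P).map σ := by
      intro P
      induction P using Polynomial.induction_on' with
      | add P Q hP hQ => simp only [Polynomial.map_add, map_add, hP, hQ, Matrix.map_add _ (map_add σ)]
      | monomial k a =>
        rw [Polynomial.map_monomial, aeval_monomial, aeval_monomial, ← Algebra.smul_def, ← Algebra.smul_def,
          Matrix.map_smul' _ _ _ (map_mul σ)]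
        congr 1
        exact (map_pow σ.mapMatrix x k).symm
    rw [h1, hx0, Matrix.map_zero _ (map_zero σ)]
  have h3 : aeval x (P₁.map σ) = 0 := by
    have h2 := hpoly (P₁.map σ)
    rw [h0, zero_mul] at h2
    have h3 := congrArg (A⁻¹ * ·) h2.symm
    rwa [mul_zero, Matrix.nonsing_inv_mul_cancel_left _ _ (isUnit_iff_ne_zero.2 hA)] at h3
  have h4 := hxα _ h3
  haveI := Fact.mk hg
  set α := AdjoinRoot.root g with hα
  haveI : CharP (AdjoinRoot g) p := charP_of_injective_algebraMap (algebraMap F (AdjoinRoot g)).injective p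
  have hord : orderOf α = r := orderOf_eq_prime hαr hα1
  have hfo : IsOfFinOrder α := isOfFinOrder_iff_pow_eq_one.2 ⟨r, hr.out.pos, hαr⟩
  have hq0 : (p : ZMod r) ≠ 0 := fun e => by
    rw [ZMod.natCast_eq_zero_iff, Nat.prime_dvd_prime_iff_eq hr.out (Fact.out : p.Prime)] at e
    exact hrF (by rw [e]; exact CharP.cast_eq_zero F p)
  set e : ℕ := (((p : ZMod r) ^ k₀)⁻¹).val
  have he : ((e * p ^ k₀ : ℕ) : ZMod r) = 1 := by
    rw [Nat.cast_mul, ZMod.natCast_zmod_val, Nat.cast_pow, inv_mul_cancel₀ (pow_ne_zero _ hq0)]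
  have hpow : (α ^ e) ^ p ^ k₀ = α := by
    rw [← pow_mul]
    conv_rhs => rw [← pow_one α]
    refine hfo.pow_eq_pow_iff_modEq.2 ?_
    rw [hord, ← ZMod.natCast_eq_natCast_iff, he, Nat.cast_one]
  set φ : AdjoinRoot g →+* AdjoinRoot g := iterateFrobenius (AdjoinRoot g) p k₀
  have hφ : ∀ a, φ a = a ^ p ^ k₀ := fun a => iterateFrobenius_def p k₀ a
  have h5 : aeval (α ^ e) P₁ = 0 := by
    refine φ.injective ?_
    have h4' : aeval ((α ^ e) ^ p ^ k₀) (P₁.map σ) = 0 := by rw [hpow]; exact h4
    rw [map_zero, ← h4', ← hφ, aeval_def, aeval_def, hom_eval₂, eval₂_map]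
    congr 1
    refine RingHom.ext fun a => ?_
    rw [RingHom.comp_apply, RingHom.comp_apply, hσ, map_pow, hφ]
  rw [map_mul, map_sub, aeval_X, map_one] at h5
  have he1 : α ^ e ≠ 1 := fun h => by
    rw [← orderOf_dvd_iff_pow_eq_one, hord, ← ZMod.natCast_eq_zero_iff] at h
    rw [Nat.cast_mul, h, zero_mul] at he
    exact one_ne_zero he.symm
  have hroot : aeval (α ^ e) g = 0 := (mul_eq_zero.1 h5).resolve_left (sub_ne_zero.2 he1)
  set q := Fintype.card F with hq
  have hconj : ∀ k : ℕ, aeval (α ^ q ^ k) g = 0 := by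
    intro k
    induction k with
    | zero => rw [pow_zero, pow_one]; exact (AdjoinRoot.aeval_eq g).trans AdjoinRoot.mk_self
    | succ k ih =>
      rw [pow_succ, pow_mul, hq, ← Polynomial.expand_aeval, FiniteField.expand_card, map_pow, ih,
        zero_pow Fintype.card_ne_zero]
  set S := (Finset.range (orderOf (q : ZMod r))).image fun k => α ^ q ^ k
  have hS : S.card = orderOf (q : ZMod r) := by
    rw [Finset.card_image_of_injOn, Finset.card_range]
    intro k hk l hl hkl
    rw [Finset.coe_range, Set.mem_Iio] at hk hl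
    have h := hfo.pow_eq_pow_iff_modEq.1 hkl
    rw [hord, ← ZMod.natCast_eq_natCast_iff, Nat.cast_pow, Nat.cast_pow] at h
    exact pow_injOn_Iio_orderOf hk hl h
  have hmem : α ^ e ∈ S := by
    by_contra hnot
    have hsub : insert (α ^ e) S ⊆ (g.map (algebraMap F (AdjoinRoot g))).roots.toFinset := by
      intro b hb
      rw [Multiset.mem_toFinset, mem_roots (Polynomial.map_ne_zero hg.ne_zero), IsRoot.def, eval_map, ← aeval_def]
      rcases Finset.mem_insert.1 hb with rfl | hb
      · exact hroot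
      · obtain ⟨k, -, rfl⟩ := Finset.mem_image.1 hb; exact hconj k
    have h6 := (Finset.card_le_card hsub).trans ((Multiset.toFinset_card_le _).trans (card_roots' _))
    rw [Finset.card_insert_of_notMem hnot, hS, natDegree_map, hgi] at h6
    omega
  obtain ⟨k, -, hk⟩ := Finset.mem_image.1 hmem
  have h7 := hfo.pow_eq_pow_iff_modEq.1 hk
  rw [hord, ← ZMod.natCast_eq_natCast_iff, Nat.cast_pow] at h7
  refine hno k ?_
  rw [h7, ← Nat.cast_pow, ← Nat.cast_mul, he]


end Cfsg.Agent.Subfield77
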