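/-
Matrices similar, up to scalars, to matrices over a subfield of a finite field.
-/
import Cfsg.Agent.ClMax99.InvSL
import Cfsg.Agent.KnownSimple58.CyclicDecomp
import Cfsg.Agent.Lib.GLSemisimple.Conj
import Cfsg.Prelude.Def_GeometricClasses
import Mathlib.FieldTheory.Finite.GaloisField

set_option autoImplicit false
set_option linter.unusedSectionVars false

namespace Cfsg.Agent.Subfield77

open Polynomial Matrix Module

universe u

variable {F : Type u} [Field F] [Fintype F] {n : ℕ} (F₀ : Subfield F)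

theorem mem_sub_iff (A : GL (Fin n) F) :
    A ∈ Cfsg.Geo.subfieldSubgroup F₀ 1 ↔ ∃ (g : GL (Fin n) F₀) (c : Fˣ),
      (A : Matrix (Fin n) (Fin n) F) = (c : F) • ((g : Matrix (Fin n) (Fin n) F₀).map (F₀.subtype)) := by
  haveI : (Cfsg.Geo.scalars (Fin n) F).Normal := by
    refine ⟨fun s hs g => ?_⟩
    obtain ⟨c, hc⟩ := (Cfsg.Geo.mem_scalars_iff s).1 hs
    suffices g * s * g⁻¹ = s by rw [this]; exact hs
    apply Units.ext
    rw [Units.val_mul, Units.val_mul, hc, Matrix.mul_smul, mul_one, Matrix.smul_mul, ← Units.val_mul,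
      mul_inv_cancel, Units.val_one]
  have h1 : Cfsg.Geo.subfieldSubgroup F₀ (1 : GL (Fin n) F) =
      (Matrix.GeneralLinearGroup.map (F₀.subtype : F₀ →+* F)).range ⊔ Cfsg.Geo.scalars (Fin n) F := by
    rw [Cfsg.Geo.subfieldSubgroup, show (MulAut.conj (1 : GL (Fin n) F)).toMonoidHom = MonoidHom.id _ from by
      ext; simp]
    exact Subgroup.map_id _
  rw [h1, Subgroup.mem_sup_of_normal_right]
  constructor
  · rintro ⟨y, ⟨g, rfl⟩, s, hs, rfl⟩
    obtain ⟨c, hc⟩ := (Cfsg.Geo.mem_scalars_iff s).1 hs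
    exact ⟨g, c, by rw [Units.val_mul, hc, Matrix.mul_smul, mul_one]; rfl⟩
  · rintro ⟨g, c, hA⟩
    refine ⟨Matrix.GeneralLinearGroup.map (F₀.subtype : F₀ →+* F) g, ⟨g, rfl⟩,
      Units.map (Matrix.scalar (Fin n) : F →+* Matrix (Fin n) (Fin n) F).toMonoidHom c, ⟨c, rfl⟩, Units.ext ?_⟩
    rw [Units.val_mul, hA]
    show (g : Matrix (Fin n) (Fin n) F₀).map F₀.subtype * Matrix.scalar (Fin n) (c : F) = _
    rw [Matrix.scalar_apply, ← Matrix.smul_one_eq_diagonal, Matrix.mul_smul, mul_one]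

theorem isSemisimple_of_pow {r : ℕ} (hrF : (r : F) ≠ 0) {x : Matrix (Fin n) (Fin n) F} {z : F} (hz : z ≠ 0)
    (hx : x ^ r = z • 1) : Module.End.IsSemisimple (Matrix.toLin' x) := by
  refine Module.End.isSemisimple_of_squarefree_aeval_eq_zero
    ((separable_X_pow_sub_C z hrF hz).squarefree) ?_
  have h : (Matrix.toLin' x) ^ r = z • 1 := by
    rw [← Matrix.toLin'_pow, hx, map_smul, Matrix.toLin'_one]; rfl
  rw [map_sub, map_pow, aeval_X, aeval_C, h, Algebra.algebraMap_eq_smul_one, sub_self]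

/-- Conjugation in `SL_n` from conjugation in `GL_n`. -/
theorem conj_sub {r : ℕ} (hrF : (r : F) ≠ 0) (hn : 0 < n) (x : Matrix.SpecialLinearGroup (Fin n) F) {z : F}
    (hz : z ≠ 0) (hx : (x : Matrix (Fin n) (Fin n) F) ^ r = z • 1) {c : F} (hc : c ≠ 0)
    {P : Matrix (Fin n) (Fin n) F} (hP : P.det ≠ 0) (S0 : Matrix (Fin n) (Fin n) F₀)
    (hxP : (x : Matrix (Fin n) (Fin n) F) * P = P * (c • S0.map F₀.subtype)) :
    ∃ Q : Matrix.SpecialLinearGroup (Fin n) F, Q⁻¹ * x * Q ∈ ((Cfsg.Geo.subfieldSubgroup F₀ 1).comap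
      (Matrix.SpecialLinearGroup.toGL : Matrix.SpecialLinearGroup (Fin n) F →* GL (Fin n) F)) := by
  obtain ⟨e, he, hed⟩ := GLSemi.exists_commuting_det_eq (by rw [Module.finrank_fin_fun]; exact hn)
    (Matrix.toLin' (x : Matrix (Fin n) (Fin n) F)) (isSemisimple_of_pow hrF hz hx) P.det⁻¹
  set C := LinearMap.toMatrix' e with hC
  have hCd : C.det = P.det⁻¹ := by rw [hC, LinearMap.det_toMatrix', hed]
  have hCx : C * (x : Matrix (Fin n) (Fin n) F) = (x : Matrix (Fin n) (Fin n) F) * C := by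
    apply Matrix.toLin'.injective
    rw [Matrix.toLin'_mul, Matrix.toLin'_mul, hC, Matrix.toLin'_toMatrix']
    exact he
  let Q : Matrix.SpecialLinearGroup (Fin n) F :=
    ⟨C * P, by rw [Matrix.det_mul, hCd, inv_mul_cancel₀ hP]⟩
  have hxQ : (x : Matrix (Fin n) (Fin n) F) * (Q : Matrix (Fin n) (Fin n) F) =
      (Q : Matrix (Fin n) (Fin n) F) * (c • S0.map F₀.subtype) := by
    show _ * (C * P) = C * P * _
    rw [← mul_assoc, ← hCx, mul_assoc, hxP, mul_assoc]
  refine ⟨Q, ?_⟩
  change Matrix.SpecialLinearGroup.toGL (Q⁻¹ * x * Q) ∈ Cfsg.Geo.subfieldSubgroup F₀ 1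
  have hS0 : IsUnit S0 := by
    rw [Matrix.isUnit_iff_isUnit_det]
    refine isUnit_iff_ne_zero.2 fun e0 => ?_
    have h1 := congrArg Matrix.det hxP
    rw [Matrix.det_mul, Matrix.det_mul, Matrix.det_smul, x.2, one_mul,
      show (S0.map F₀.subtype).det = F₀.subtype S0.det from (RingHom.map_det F₀.subtype S0).symm, e0, map_zero,
      mul_zero, mul_zero] at h1
    exact hP h1
  obtain ⟨u, hu⟩ := hS0
  rw [mem_sub_iff]
  refine ⟨u, Units.mk0 c hc, ?_⟩
  rw [Matrix.SpecialLinearGroup.coe_GL_coe_matrix, Units.val_mk0, hu]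
  show ((Q⁻¹ * x * Q : Matrix.SpecialLinearGroup (Fin n) F) : Matrix (Fin n) (Fin n) F) = _
  rw [Matrix.SpecialLinearGroup.coe_mul, Matrix.SpecialLinearGroup.coe_mul, mul_assoc, hxQ, ← mul_assoc,
    ← Matrix.SpecialLinearGroup.coe_mul, inv_mul_cancel, Matrix.SpecialLinearGroup.coe_one, one_mul]

variable {q₀ : ℕ} (hq₀ : Nat.card ↥F₀ = q₀) {σ : F →+* F} (hσ : ∀ a, σ a = a ^ q₀)

include hq₀ hσ

theorem sigma_fix (a : F) (ha : a ∈ F₀) : σ a = a := by
  haveI : Fintype F₀ := Fintype.ofFinite F₀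
  have h := FiniteField.pow_card (⟨a, ha⟩ : F₀)
  rw [Fintype.card_eq_nat_card, hq₀] at h
  rw [hσ]
  exact congrArg Subtype.val h

theorem mem_of_sigma_fix (a : F) (ha : σ a = a) : a ∈ F₀ := by
  classical
  haveI : Fintype F₀ := Fintype.ofFinite F₀
  have h2 : 1 < q₀ := hq₀ ▸ Finite.one_lt_card
  by_contra hnot
  have hP : (X ^ q₀ - X : F[X]) ≠ 0 := FiniteField.X_pow_card_sub_X_ne_zero F h2
  have hsub : insert a (Finset.univ.image (Subtype.val : F₀ → F)) ⊆ (X ^ q₀ - X : F[X]).roots.toFinset := by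
    intro b hb
    rw [Multiset.mem_toFinset, mem_roots hP, IsRoot.def, eval_sub, eval_pow, eval_X, sub_eq_zero, ← hσ]
    rcases Finset.mem_insert.1 hb with rfl | hb
    · exact ha
    · obtain ⟨b, -, rfl⟩ := Finset.mem_image.1 hb
      exact sigma_fix F₀ hq₀ hσ _ b.2
  have h := (Finset.card_le_card hsub).trans ((Multiset.toFinset_card_le _).trans (card_roots' _))
  rw [Finset.card_insert_of_notMem (fun hmem => by
    obtain ⟨b, -, rfl⟩ := Finset.mem_image.1 hmem; exact hnot b.2),
    Finset.card_image_of_injective _ Subtype.val_injective, Finset.card_univ, Fintype.card_eq_nat_card, hq₀,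
    FiniteField.X_pow_card_sub_X_natDegree_eq F h2] at h
  omega

theorem exists_sub_of_fix (M : Matrix (Fin n) (Fin n) F) (hM : M.map σ = M) :
    ∃ M0 : Matrix (Fin n) (Fin n) F₀, M0.map F₀.subtype = M :=
  ⟨Matrix.of fun i j => ⟨M i j, mem_of_sigma_fix F₀ hq₀ hσ _ (congrFun (congrFun hM i) j)⟩, rfl⟩

/-- A conjugate inside the subfield group gives a twisted commutant. -/
theorem exists_twist (x Q : Matrix.SpecialLinearGroup (Fin n) F)
    (h : Q⁻¹ * x * Q ∈ ((Cfsg.Geo.subfieldSubgroup F₀ 1).comap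
      (Matrix.SpecialLinearGroup.toGL : Matrix.SpecialLinearGroup (Fin n) F →* GL (Fin n) F))) :
    ∃ (A : Matrix (Fin n) (Fin n) F) (ε : F), A.det ≠ 0 ∧ ε ≠ 0 ∧
      (x : Matrix (Fin n) (Fin n) F).map σ * A = ε • (A * (x : Matrix (Fin n) (Fin n) F)) := by
  obtain ⟨g, c, hgc⟩ := (mem_sub_iff F₀ _).1 h
  rw [Matrix.SpecialLinearGroup.coe_GL_coe_matrix] at hgc
  have hx : (x : Matrix (Fin n) (Fin n) F) * (Q : Matrix (Fin n) (Fin n) F) =
      (Q : Matrix (Fin n) (Fin n) F) * ((c : F) • (g : Matrix (Fin n) (Fin n) F₀).map F₀.subtype) := by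
    rw [← hgc, ← Matrix.SpecialLinearGroup.coe_mul, ← Matrix.SpecialLinearGroup.coe_mul]
    congr 1
    rw [← mul_assoc, ← mul_assoc, mul_inv_cancel, one_mul]
  set G := (g : Matrix (Fin n) (Fin n) F₀).map F₀.subtype
  have hG : G.map σ = G := Matrix.ext fun i j => sigma_fix F₀ hq₀ hσ _ (Subtype.mem _)
  have hQi : (Q : Matrix (Fin n) (Fin n) F) * ((Q⁻¹ : Matrix.SpecialLinearGroup (Fin n) F) : Matrix (Fin n) (Fin n) F) = 1 := by
    rw [← Matrix.SpecialLinearGroup.coe_mul, mul_inv_cancel, Matrix.SpecialLinearGroup.coe_one]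
  refine ⟨(Q : Matrix (Fin n) (Fin n) F).map σ * ((Q⁻¹ : Matrix.SpecialLinearGroup (Fin n) F) : Matrix (Fin n) (Fin n) F),
    σ c / c, ?_, div_ne_zero ((map_ne_zero σ).2 c.ne_zero) c.ne_zero, ?_⟩
  · rw [Matrix.det_mul, ← RingHom.mapMatrix_apply, ← RingHom.map_det, Q.2, (Q⁻¹).2, map_one, mul_one]
    exact one_ne_zero
  · have hσx := congrArg (fun M : Matrix (Fin n) (Fin n) F => M.map σ) hx
    simp only [Matrix.map_mul, Matrix.map_smul' σ _ _ (map_mul σ), hG] at hσx
    have hiQ : ((Q⁻¹ : Matrix.SpecialLinearGroup (Fin n) F) : Matrix (Fin n) (Fin n) F) * (Q : Matrix (Fin n) (Fin n) F) = 1 := by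
      rw [← Matrix.SpecialLinearGroup.coe_mul, inv_mul_cancel, Matrix.SpecialLinearGroup.coe_one]
    set Qi := ((Q⁻¹ : Matrix.SpecialLinearGroup (Fin n) F) : Matrix (Fin n) (Fin n) F)
    have hx' : Qi * (x : Matrix (Fin n) (Fin n) F) = ((c : F) • G) * Qi := by
      calc Qi * (x : Matrix (Fin n) (Fin n) F) = Qi * ((x : Matrix (Fin n) (Fin n) F) * Q) * Qi := by
            rw [mul_assoc, mul_assoc, hQi, mul_one]
        _ = _ := by rw [hx, ← mul_assoc, hiQ, one_mul]
    rw [← mul_assoc, hσx, mul_assoc _ Qi, hx']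
    simp only [Matrix.smul_mul, Matrix.mul_smul, smul_smul, div_mul_cancel₀ _ c.ne_zero, mul_assoc]

/-- Diagonal matrices with entries permuted by Frobenius. -/
theorem descent_diag (θ : F) (hθ : σ θ ≠ θ) (hσ2 : ∀ a : F, σ (σ a) = a) (w : Fin n → F)
    (π : Equiv.Perm (Fin n)) (hπ : ∀ i, π (π i) = i) (hw : ∀ i, σ (w i) = w (π i)) :
    ∃ (P : Matrix (Fin n) (Fin n) F) (M0 : Matrix (Fin n) (Fin n) F₀), P.det ≠ 0 ∧
      Matrix.diagonal w * P = P * M0.map F₀.subtype := by
  classical
  let P : Matrix (Fin n) (Fin n) F := Matrix.of fun i l =>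
    if π l = l then (if i = l then 1 else 0)
    else if l < π l then (if i = l ∨ i = π l then 1 else 0)
    else (if i = l then θ else if i = π l then σ θ else 0)
  have hPσ : P.map σ = P.submatrix π id := by
    ext i l
    have e1 : π i = l ↔ i = π l := ⟨fun h => by rw [← h, hπ], fun h => by rw [h, hπ]⟩
    have e2 : π i = π l ↔ i = l := π.injective.eq_iff
    simp only [Matrix.map_apply, Matrix.submatrix_apply, id_eq, P, Matrix.of_apply, e1, e2]
    by_cases h1 : π l = l
    · simp only [h1, if_true]; split_ifs <;> simp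
    · simp only [h1, if_false]
      by_cases h2 : l < π l
      · simp only [h2, if_true, or_comm]; split_ifs <;> simp
      · simp only [h2, if_false]
        by_cases h3 : i = l
        · simp [h3, Ne.symm h1]
        · by_cases h4 : i = π l <;> simp [h3, h4, hσ2, h1]
  have hPd : P.det ≠ 0 := by
    intro h0
    obtain ⟨v, hv, hPv⟩ := Matrix.exists_mulVec_eq_zero_iff.2 h0
    refine hv (funext fun i => ?_)
    have row : ∀ j : Fin n, (P *ᵥ v) j = P j j * v j + (if π j = j then 0 else P j (π j) * v (π j)) := by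
      intro j
      show ∑ l, P j l * v l = _
      rw [← Finset.add_sum_erase _ _ (Finset.mem_univ j)]
      congr 1
      by_cases hj : π j = j
      · rw [if_pos hj]
        refine Finset.sum_eq_zero fun l hl => ?_
        have hne := (Finset.mem_erase.1 hl).1
        have : j ≠ π l := fun e => hne (by rw [← hj, e, hπ])
        simp [P, Ne.symm hne, this]
      · rw [if_neg hj, Finset.sum_eq_single (π j)]
        · intro l hl hl'
          have hne := (Finset.mem_erase.1 hl).1
          have : j ≠ π l := fun e => hl' (by rw [e, hπ])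
          simp [P, Ne.symm hne, this]
        · intro h; simp [hj] at h
    rw [hPv] at row
    simp only [Pi.zero_apply] at row
    have pair : ∀ a : Fin n, a < π a → v a = 0 ∧ v (π a) = 0 := by
      intro a ha
      have hb : π (π a) = a := hπ a
      have hne : π a ≠ a := (ne_of_lt ha).symm
      have r1 := row a
      have r2 := row (π a)
      rw [if_neg hne] at r1
      rw [if_neg (by rw [hb]; exact hne.symm), hb] at r2
      have hnlt : ¬ π a < a := not_lt.2 ha.le
      have e11 : P a a = 1 := by simp [P, hne, ha]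
      have e12 : P a (π a) = σ θ := by simp [P, hb, hne, hne.symm, hnlt]
      have e21 : P (π a) a = 1 := by simp [P, hne, ha]
      have e22 : P (π a) (π a) = θ := by simp [P, hb, hne.symm, hnlt]
      rw [e11, e12] at r1
      rw [e21, e22] at r2
      have h3 : (σ θ - θ) * v (π a) = 0 := by linear_combination -r1 + r2
      have h4 : v (π a) = 0 := (mul_eq_zero.1 h3).resolve_left (sub_ne_zero.2 hθ)
      exact ⟨by simpa [h4] using r1.symm, h4⟩
    rcases lt_trichotomy i (π i) with h | h | h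
    · exact (pair i h).1
    · have := row i
      simp [P, ← h] at this
      exact this.symm
    · have := (pair (π i) (by rw [hπ]; exact h)).2
      rwa [hπ] at this
  have hu : IsUnit P.det := isUnit_iff_ne_zero.2 hPd
  set Y := P⁻¹ * (Matrix.diagonal w * P) with hY
  have hDP : Matrix.diagonal w * P = P * Y := by rw [hY, Matrix.mul_nonsing_inv_cancel_left _ _ hu]
  obtain ⟨M0, hM0⟩ := exists_sub_of_fix F₀ hq₀ hσ Y (by
    have h1 := congrArg (fun M : Matrix (Fin n) (Fin n) F => M.map σ) hDP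
    simp only [Matrix.map_mul, Matrix.diagonal_map (map_zero σ), hPσ] at h1
    have h2 : (P.submatrix π id) * Y = (P.submatrix π id) * Y.map σ := by
      rw [← h1, show P.submatrix π id * Y = (P * Y).submatrix π id from rfl, ← hDP]
      ext i l
      simp [Matrix.diagonal_mul, hw i]
    have hu' : IsUnit (P.submatrix π id).det := by
      rw [Matrix.det_permute]
      exact IsUnit.mul (by rcases Int.units_eq_one_or (Equiv.Perm.sign π) with h | h <;> simp [h]) hu
    have h3 := congrArg (fun M => (P.submatrix π id)⁻¹ * M) h2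
    simp only [Matrix.nonsing_inv_mul_cancel_left _ _ hu'] at h3
    exact h3.symm)
  exact ⟨P, M0, hPd, by rw [hM0, hDP]⟩

/-- Elements of order dividing `r` when `q₀ ≡ q (mod r)`. -/
theorem descent_pow {p : ℕ} [Fact p.Prime] [CharP F p] {r : ℕ} [Fact r.Prime] (hrF : (r : F) ≠ 0)
    (hqq : (q₀ : ZMod r) = (Fintype.card F : ZMod r)) (y : Matrix (Fin n) (Fin n) F) (hy : y ^ r = 1) :
    ∃ (P : Matrix (Fin n) (Fin n) F) (M0 : Matrix (Fin n) (Fin n) F₀), P.det ≠ 0 ∧
      y * P = P * M0.map F₀.subtype := by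
  classical
  obtain ⟨ι, hι, q, e, g, ψ, hg, hψ⟩ := KS58.exists_cyclic_decomp y
  have hgr : ∀ i, g i ∣ X ^ r - 1 := by
    intro i
    obtain ⟨v, hv⟩ := ψ.surjective (Pi.single i 1)
    have hk : ∀ (k : ℕ) (v : Fin n → F), ψ ((y ^ k) *ᵥ v) i = AdjoinRoot.root (g i) ^ k * ψ v i := by
      intro k
      induction k with
      | zero => simp
      | succ k ih => intro v; rw [pow_succ', ← Matrix.mulVec_mulVec, hψ, ih, pow_succ', mul_assoc]
    have h := hk r v
    rw [hy, Matrix.one_mulVec, hv, Pi.single_eq_same, mul_one] at h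
    rw [← AdjoinRoot.mk_eq_zero, map_sub, map_pow, AdjoinRoot.mk_X, map_one, ← h, sub_self]
  have hfix : ∀ i, (g i).map σ = g i := by
    intro i
    obtain ⟨hq, hqa, hm⟩ := hg i
    have he : e i ≤ 1 := by
      by_contra hlt
      have h2 : q i * q i ∣ X ^ r - 1 := (dvd_trans (by rw [← pow_two]; exact pow_dvd_pow _ (by omega)) hqa.symm.dvd).trans (hgr i)
      have hsf := ((separable_X_pow_sub_C (1 : F) hrF one_ne_zero).squarefree)
      rw [C_1] at hsf
      exact hq.not_isUnit (hsf _ h2)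
    rcases Nat.le_one_iff_eq_zero_or_eq_one.1 he with h0 | h1
    · rw [h0, pow_zero] at hqa
      rw [hm.eq_one_of_isUnit (hqa.symm.isUnit isUnit_one), Polynomial.map_one]
    · rw [h1, pow_one] at hqa
      have hgi : Irreducible (g i) := hqa.symm.irreducible hq
      haveI := Fact.mk hgi
      set α := AdjoinRoot.root (g i)
      have hα : aeval α (g i) = 0 := (AdjoinRoot.aeval_eq _).trans AdjoinRoot.mk_self
      have hαr : α ^ r = 1 := by
        have := AdjoinRoot.mk_eq_zero.2 (hgr i)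
        rwa [map_sub, map_pow, AdjoinRoot.mk_X, map_one, sub_eq_zero] at this
      haveI : CharP (AdjoinRoot (g i)) p :=
        charP_of_injective_algebraMap (algebraMap F (AdjoinRoot (g i))).injective p
      have hpow : α ^ q₀ = α ^ Fintype.card F := by
        rw [← Nat.mod_add_div q₀ r, ← Nat.mod_add_div (Fintype.card F) r, pow_add, pow_add, pow_mul, pow_mul,
          hαr, one_pow, one_pow, (ZMod.natCast_eq_natCast_iff' _ _ _).1 hqq]
      have h1 : aeval (α ^ Fintype.card F) (g i) = 0 := by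
        rw [← Polynomial.expand_aeval, FiniteField.expand_card, map_pow, hα, zero_pow Fintype.card_ne_zero]
      obtain ⟨f, -, hf⟩ := FiniteField.card F p
      haveI : Fintype F₀ := Fintype.ofFinite F₀
      haveI : CharP F₀ p := (RingHom.charP_iff (F₀.subtype : F₀ →+* F) F₀.subtype.injective p).2 inferInstance
      obtain ⟨f₀, -, hf₀⟩ := FiniteField.card F₀ p
      rw [Fintype.card_eq_nat_card, hq₀] at hf₀
      set φ : AdjoinRoot (g i) →+* AdjoinRoot (g i) := iterateFrobenius (AdjoinRoot (g i)) p f₀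
      have hφ : ∀ a, φ a = a ^ q₀ := fun a => by rw [hf₀]; exact iterateFrobenius_def p f₀ a
      have h2 : aeval (α ^ Fintype.card F) ((g i).map σ) = 0 := by
        have h3 := congrArg φ hα
        rw [map_zero, aeval_def, hom_eval₂, hφ, hpow] at h3
        rw [aeval_def, eval₂_map, ← h3]
        congr 1
        exact RingHom.ext fun a => by rw [RingHom.comp_apply, RingHom.comp_apply, hσ, map_pow, hφ]
      have e1 := minpoly.eq_of_irreducible_of_monic hgi h1 hm
      refine (Polynomial.eq_of_monic_of_dvd_of_natDegree_le hm (hm.map σ) ?_ ?_).symm ▸ rfl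
      · have hdvd := minpoly.dvd F _ h2
        rwa [← e1] at hdvd
      · rw [Polynomial.natDegree_map]
  let pb : ∀ i, Module.Basis (Fin (g i).natDegree) F (AdjoinRoot (g i)) :=
    fun i => AdjoinRoot.powerBasisAux' (hg i).2.2
  let B : Module.Basis (Σ i, Fin (g i).natDegree) F (Fin n → F) := (Pi.basis pb).map ψ.symm
  let e₂ : (Σ i, Fin (g i).natDegree) ≃ Fin n := B.indexEquiv (Pi.basisFun F (Fin n))
  let B' := B.reindex e₂
  let P : Matrix (Fin n) (Fin n) F := (Pi.basisFun F (Fin n)).toMatrix B'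
  let Y : Matrix (Fin n) (Fin n) F := LinearMap.toMatrix B' B' (Matrix.toLin' y)
  have hYfix : Y.map σ = Y := by
    ext a b
    obtain ⟨⟨i, a⟩, rfl⟩ := e₂.surjective a
    obtain ⟨⟨j, b⟩, rfl⟩ := e₂.surjective b
    rw [Matrix.map_apply]
    simp only [Y, B', LinearMap.toMatrix_apply, Module.Basis.repr_reindex, Finsupp.mapDomain_equiv_apply,
      Equiv.symm_apply_apply, Module.Basis.coe_reindex, Function.comp_apply, Matrix.toLin'_apply]
    simp only [B, Module.Basis.map_repr, Module.Basis.map_apply, LinearEquiv.trans_apply, LinearEquiv.symm_symm,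
      Pi.basis_repr, hψ, LinearEquiv.apply_symm_apply, Pi.basis_apply]
    by_cases hij : i = j
    · subst hij
      rw [Pi.single_eq_same]
      have hb : pb i b = AdjoinRoot.mk (g i) (X ^ (b : ℕ)) :=
        ((AdjoinRoot.powerBasis' (hg i).2.2).basis_eq_pow b).trans (by
          rw [AdjoinRoot.powerBasis'_gen, map_pow, AdjoinRoot.mk_X])
      rw [hb, ← AdjoinRoot.mk_X, ← map_mul]
      show σ ((AdjoinRoot.powerBasisAux' (hg i).2.2).repr _ a) = (AdjoinRoot.powerBasisAux' (hg i).2.2).repr _ a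
      rw [AdjoinRoot.powerBasisAux'_repr_apply_to_fun, AdjoinRoot.modByMonicHom_mk, ← Polynomial.coeff_map,
        Polynomial.map_modByMonic σ (hg i).2.2, hfix i]
      simp
    · rw [Pi.single_eq_of_ne hij, mul_zero, map_zero]; simp
  obtain ⟨M0, hM0⟩ := exists_sub_of_fix F₀ hq₀ hσ Y hYfix
  refine ⟨P, M0, ?_, ?_⟩
  · have := congrArg Matrix.det ((Pi.basisFun F (Fin n)).toMatrix_mul_toMatrix_flip B')
    rw [Matrix.det_mul, Matrix.det_one] at this
    exact left_ne_zero_of_mul_eq_one this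
  · rw [hM0]
    show y * P = P * Y
    rw [basis_toMatrix_mul_linearMap_toMatrix]
    conv_lhs => rw [show y = LinearMap.toMatrix (Pi.basisFun F (Fin n)) (Pi.basisFun F (Fin n)) (Matrix.toLin' y) by
      rw [LinearMap.toMatrix_eq_toMatrix', LinearMap.toMatrix'_toLin']]
    rw [linearMap_toMatrix_mul_basis_toMatrix]

end Cfsg.Agent.Subfield77
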