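/-
Diagonal elements without a twisted commutant for a field automorphism.
-/
import Cfsg.Agent.ClMax99.SimFormSplit

set_option autoImplicit false
set_option linter.unusedSectionVars false

namespace Cfsg.Agent.Subfield77

open Cfsg.Agent.ClMax99 Cfsg.Agent.ClMax99.SimForm

section general

variable {F : Type*} [Field F] {σ : F →+* F} {ι : Type} [Fintype ι] [DecidableEq ι]

/-- A diagonal matrix with two values of dominant multiplicity has no twisted commutant. -/
theorem not_twist_diag [DecidableEq F] {A : Matrix ι ι F} {ε : F} (hA : A.det ≠ 0) {w : ι → F} {u₁ u₂ : F}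
    (hε : ε ≠ 0) (hw : ∀ k, w k ≠ 0) (h₂ : ∃ k, w k = u₂)
    (hm₁ : ∀ v, v ≠ u₁ → (Finset.univ.filter fun k => w k = v).card < (Finset.univ.filter fun k => w k = u₁).card)
    (hm₂ : ∀ v, v ≠ u₁ → v ≠ u₂ → (Finset.univ.filter fun k => w k = v).card < (Finset.univ.filter fun k => w k = u₂).card)
    (hne : σ u₁ * u₂ ≠ σ u₂ * u₁) :
    (Matrix.diagonal w).map σ * A ≠ ε • (A * Matrix.diagonal w) := by
  intro h
  have hrel : ∀ k l, A k l ≠ 0 → σ (w k) = ε * w l := fun k l hne' => by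
    have := congrFun (congrFun h k) l
    rw [Matrix.diagonal_map (map_zero σ), Matrix.diagonal_mul, Matrix.smul_apply, Matrix.mul_diagonal,
      smul_eq_mul] at this
    exact mul_right_cancel₀ hne' (by linear_combination this)
  have key : ∀ u, (∃ k, w k = u) → ∃ v, σ u = ε * v ∧
      (Finset.univ.filter fun k => w k = u).card ≤ (Finset.univ.filter fun k => w k = v).card := by
    rintro u ⟨k₀, rfl⟩
    obtain ⟨l₀, hl₀⟩ : ∃ l, A k₀ l ≠ 0 := by
      by_contra hn
      push Not at hn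
      exact hA (Matrix.det_eq_zero_of_row_eq_zero k₀ hn)
    refine ⟨w l₀, hrel _ _ hl₀, not_lt.1 fun hlt => hA (det_eq_zero_of_support _ _ hlt fun k hk l hl => ?_)⟩
    rw [Finset.mem_filter] at hk hl
    by_contra hne'
    have e1 := (hrel _ _ hne')
    rw [hk.2, hrel _ _ hl₀] at e1
    exact hl ⟨Finset.mem_univ _, mul_left_cancel₀ hε e1.symm⟩
  have h₁ : ∃ k, w k = u₁ := by
    obtain ⟨k, hk⟩ := h₂
    have hne' : u₂ ≠ u₁ := fun e => hne (by rw [e])
    obtain ⟨k', hk'⟩ := Finset.card_pos.1 (lt_of_le_of_lt (Nat.zero_le _) (hm₁ u₂ hne'))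
    exact ⟨k', (Finset.mem_filter.1 hk').2⟩
  obtain ⟨v₁, hv₁, hle₁⟩ := key u₁ h₁
  have e₁ : v₁ = u₁ := by
    by_contra e
    exact absurd (hm₁ v₁ e) (by omega)
  obtain ⟨v₂, hv₂, hle₂⟩ := key u₂ h₂
  rw [e₁] at hv₁
  by_cases e₂ : v₂ = u₁
  · rw [e₂] at hv₂
    exact hne (by rw [σ.injective (hv₁.trans hv₂.symm)])
  · have e3 : v₂ = u₂ := by
      by_contra e
      exact absurd (hm₂ v₂ e₂ e) (by omega)
    rw [e3] at hv₂
    exact hne (by rw [hv₁, hv₂]; ring)

end general

section diag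

variable {F : Type*} [Field F] [Fintype F] {σ : F →+* F} {n : ℕ} {r : ℕ} [hr : Fact r.Prime]

/-- The counterexamples among diagonal matrices. -/
theorem exists_not_twist_diag (hr2 : r ≠ 2) (hq : r ∣ Fintype.card F - 1) (hn : 3 ≤ n) (hgap : ¬ (n = 6 ∧ r = 3))
    (hexc : ¬ ((r = 3 ∨ r = 5) ∧ n = r ∧ ¬ r ^ 2 ∣ Fintype.card F - 1))
    (hσ : ∀ a : F, a ^ r = 1 → σ a = a → a = 1) :
    ∃ (w : Fin n → F) (z : F), (∏ i, w i = 1) ∧ (∀ i, w i ^ r = z) ∧ (∀ c : F, Matrix.diagonal w ≠ c • 1) ∧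
      ∀ (A : Matrix (Fin n) (Fin n) F) (ε : F), A.det ≠ 0 → ε ≠ 0 →
        (Matrix.diagonal w).map σ * A ≠ ε • (A * Matrix.diagonal w) := by
  classical
  obtain ⟨ζ₀, hζ₀⟩ := exists_prime_orderOf_dvd_card' (G := Fˣ) r (by rwa [Nat.card_units, Nat.card_eq_fintype_card])
  have hr3 : 3 ≤ r := by have := hr.out.two_le; omega
  have two : ∀ (k : ℕ) (u t : F), 0 < k → k < n → 2 * k ≠ n → u ≠ 0 → t ≠ 1 → t ^ r = 1 → u ^ n * t ^ k = 1 →
      ∃ (w : Fin n → F) (z : F), (∏ i, w i = 1) ∧ (∀ i, w i ^ r = z) ∧ (∀ c : F, Matrix.diagonal w ≠ c • 1) ∧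
        ∀ (A : Matrix (Fin n) (Fin n) F) (ε : F), A.det ≠ 0 → ε ≠ 0 →
        (Matrix.diagonal w).map σ * A ≠ ε • (A * Matrix.diagonal w) := by
    intro k u t hk hkn hk2 hu ht1 htr hprod
    have ht0 : t ≠ 0 := fun e => by rw [e, zero_pow hr.out.ne_zero] at htr; exact zero_ne_one htr
    have huv : u ≠ u * t := fun e => ht1 ((mul_eq_left₀ hu).1 e.symm)
    refine ⟨fun i => if i.1 < k then u * t else u, u ^ r, ?_, fun i => ?_, fun c hc => ?_, fun A ε hA hε => ?_⟩
    · rw [Finset.prod_ite, Finset.prod_const, Finset.prod_const]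
      have h1 : (Finset.univ.filter fun i : Fin n => i.1 < k).card = k := by
        rw [Fin.card_filter_val_lt]; omega
      have h2 := Finset.card_filter_add_card_filter_not (s := (Finset.univ : Finset (Fin n))) (fun i => i.1 < k)
      rw [h1, Finset.card_univ, Fintype.card_fin] at h2
      rw [h1, show (Finset.univ.filter fun i : Fin n => ¬ i.1 < k).card = n - k by omega, mul_pow, mul_right_comm,
        ← pow_add, Nat.add_sub_cancel' hkn.le, hprod]
    · dsimp only; split_ifs <;> simp [mul_pow, htr]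
    · have e0 := congrFun (congrFun hc ⟨0, by omega⟩) ⟨0, by omega⟩
      have e1 := congrFun (congrFun hc ⟨k, hkn⟩) ⟨k, hkn⟩
      simp [hk] at e0 e1
      exact huv (e1.trans e0.symm)
    · have hne : σ u * (u * t) ≠ σ (u * t) * u := fun e => by
        rw [map_mul] at e
        exact ht1 (hσ t htr (mul_left_cancel₀ (mul_ne_zero ((map_ne_zero σ).2 hu) hu)
          (by linear_combination -e)))
      have hw : ∀ i : Fin n, (if i.1 < k then u * t else u) ≠ 0 := fun i => by
        split_ifs <;> simp [hu, ht0]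
      have hc := card_two (n := n) hkn.le huv
      rcases Nat.lt_or_gt_of_ne hk2 with h | h
      · refine not_twist_diag hA hε hw (u₁ := u) (u₂ := u * t) ⟨⟨0, by omega⟩, by simp [hk]⟩ (fun v hv => ?_) (fun v hv hv' => ?_) hne
        · rw [hc, hc, if_neg huv, if_pos rfl]; split_ifs <;> omega
        · rw [hc, hc, if_neg hv', if_neg hv, if_pos rfl]; omega
      · refine not_twist_diag hA hε hw (u₁ := u * t) (u₂ := u) ⟨⟨k, hkn⟩, by simp⟩ (fun v hv => ?_) (fun v hv hv' => ?_) hne.symm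
        · rw [hc, hc, if_neg hv, if_pos rfl]; split_ifs <;> omega
        · rw [hc, hc, if_neg hv, if_neg hv', if_neg huv, if_pos rfl]; omega
  set ζ : F := ((ζ₀ : Fˣ) : F) with hζ
  have hζr : ζ ^ r = 1 := by rw [hζ, ← Units.val_pow_eq_pow_val, ← hζ₀, pow_orderOf_eq_one, Units.val_one]
  have hdvd : ∀ k, ζ ^ k = 1 ↔ r ∣ k := fun k => by
    rw [hζ, ← Units.val_pow_eq_pow_val, Units.val_eq_one, ← orderOf_dvd_iff_pow_eq_one, hζ₀]
  have hζ0 : ζ ≠ 0 := Units.ne_zero _
  have hζ1 : ζ ≠ 1 := fun e => by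
    have := (hdvd 1).1 (by rw [pow_one, e])
    have := Nat.le_of_dvd one_pos this
    omega
  by_cases hrn : r ∣ n
  swap
  · have hu : ζ ^ ((r - 1) * n) ≠ 1 := fun e => by
      rcases hr.out.dvd_mul.1 ((hdvd _).1 e) with h | h
      · have := Nat.le_of_dvd (by omega) h; omega
      · exact hrn h
    refine two 1 ζ (ζ ^ ((r - 1) * n)) one_pos (by omega) (by omega) hζ0 hu
      (by rw [← pow_mul, mul_comm, pow_mul, hζr, one_pow]) ?_
    rw [pow_one, ← pow_add, hdvd, show n + (r - 1) * n = r * n by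
      rw [Nat.sub_mul, one_mul, Nat.add_sub_cancel' (Nat.le_mul_of_pos_left n (by omega))]]
    exact dvd_mul_right _ _
  by_cases hk : n ≠ r ∧ n ≠ 2 * r
  · have := Nat.le_of_dvd (by omega) hrn
    exact two r 1 ζ (by omega) (by omega) (by omega) one_ne_zero hζ1 hζr (by rw [one_pow, one_mul, hζr])
  by_cases hsq : n = r ∧ r ^ 2 ∣ Fintype.card F - 1
  · obtain ⟨hnr, hsq⟩ := hsq
    obtain ⟨g, hg⟩ := IsCyclic.exists_generator (α := Fˣ)
    have ho : orderOf g = Fintype.card F - 1 := by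
      rw [orderOf_eq_card_of_forall_mem_zpowers hg, Nat.card_units, Nat.card_eq_fintype_card]
    obtain ⟨M, hM⟩ := hsq
    have hq1 : 1 < Fintype.card F := Fintype.one_lt_card
    have hM0 : 0 < M := Nat.pos_of_ne_zero fun e => by rw [e, mul_zero] at hM; omega
    have hy : orderOf (g ^ M) = r ^ 2 := by
      rw [orderOf_pow' g hM0.ne', ho, hM, Nat.gcd_mul_left_left, Nat.mul_div_cancel _ hM0]
    set y := g ^ M
    have hyr : y ^ r ≠ 1 := fun e => by
      rw [← orderOf_dvd_iff_pow_eq_one, hy] at e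
      have := Nat.le_of_dvd hr.out.pos e
      nlinarith
    have hyrr : (y ^ r) ^ r = 1 := by rw [← pow_mul, ← pow_two, ← hy, pow_orderOf_eq_one]
    refine two 1 (y : F) (((y ^ r)⁻¹ : Fˣ) : F) one_pos (by omega) (by omega) (Units.ne_zero _) ?_ ?_ ?_
    · rw [Ne, Units.val_eq_one, inv_eq_one]; exact hyr
    · rw [← Units.val_pow_eq_pow_val, inv_pow, hyrr, inv_one, Units.val_one]
    · rw [hnr, pow_one, ← Units.val_pow_eq_pow_val, ← Units.val_mul, mul_inv_cancel, Units.val_one]
  have h6 : 6 ≤ n ∧ 5 ≤ r := by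
    by_cases hnr : n = r
    · have h3 : r ≠ 3 := fun e => hexc ⟨Or.inl e, hnr, fun h => hsq ⟨hnr, h⟩⟩
      have h5 : r ≠ 5 := fun e => hexc ⟨Or.inr e, hnr, fun h => hsq ⟨hnr, h⟩⟩
      have h4 : r ≠ 4 := fun e => by rw [e] at hr; exact absurd hr.out (by norm_num)
      omega
    · have h2r : n = 2 * r := by omega
      have h3 : r ≠ 3 := fun e => hgap ⟨by omega, e⟩
      have h4 : r ≠ 4 := fun e => by rw [e] at hr; exact absurd hr.out (by norm_num)
      omega
  obtain ⟨hn6, hr5⟩ := h6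
  set w : Fin n → F := fun i => if i.1 < 2 then ζ else if i.1 = 2 then ζ ^ (r - 2) else 1 with hw
  have hwr : ∀ i, w i ^ r = 1 := fun i => by
    simp only [hw]
    split_ifs
    · exact hζr
    · rw [← pow_mul, mul_comm, pow_mul, hζr, one_pow]
    · exact one_pow r
  have hw0 : ∀ i, w i ≠ 0 := fun i => by
    simp only [hw]; split_ifs <;> simp [hζ0]
  have hne3 : ζ ^ (r - 2) ≠ 1 := fun e => by
    have := Nat.le_of_dvd (by omega) ((hdvd _).1 e); omega
  have hne4 : ζ ^ (r - 2) ≠ ζ := fun e => by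
    have : ζ ^ (r - 3) = 1 := by
      rw [show r - 2 = r - 3 + 1 by omega, pow_succ] at e
      exact (mul_eq_right₀ hζ0).1 e
    have := Nat.le_of_dvd (by omega) ((hdvd _).1 this); omega
  let i0 : Fin n := ⟨0, by omega⟩
  let i1 : Fin n := ⟨1, by omega⟩
  let i2 : Fin n := ⟨2, by omega⟩
  have h01 : i0 ≠ i1 := by simp [i0, i1, Fin.ext_iff]
  have h02 : i0 ≠ i2 := by simp [i0, i2, Fin.ext_iff]
  have h12 : i1 ≠ i2 := by simp [i1, i2, Fin.ext_iff]
  have hone : (Finset.univ.filter fun i => w i = 1) = Finset.univ \ {i0, i1, i2} := by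
    ext i
    simp only [hw, i0, i1, i2, Finset.mem_filter, Finset.mem_univ, true_and, Finset.mem_sdiff, Finset.mem_insert,
      Finset.mem_singleton, Fin.ext_iff]
    split_ifs <;> simp [hζ1, hne3] <;> omega
  have hzeta : (Finset.univ.filter fun i => w i = ζ) = {i0, i1} := by
    ext i
    simp only [hw, i0, i1, Finset.mem_filter, Finset.mem_univ, true_and, Finset.mem_insert,
      Finset.mem_singleton, Fin.ext_iff]
    split_ifs <;> simp [hne4, Ne.symm hζ1] <;> omega
  have hother : ∀ v, v ≠ 1 → v ≠ ζ → (Finset.univ.filter fun i => w i = v).card ≤ 1 := fun v hv hv' => by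
    refine (Finset.card_le_card (t := {i2}) fun i hi => ?_).trans (le_of_eq (Finset.card_singleton _))
    rw [Finset.mem_filter] at hi
    obtain ⟨-, hi⟩ := hi
    rw [Finset.mem_singleton, Fin.ext_iff]
    simp only [hw] at hi
    by_cases h : i.1 < 2
    · rw [if_pos h] at hi; exact absurd hi.symm hv'
    · rw [if_neg h] at hi
      by_cases h' : i.1 = 2
      · exact h'
      · rw [if_neg h'] at hi; exact absurd hi.symm hv
  have hc1 : (Finset.univ.filter fun i => w i = 1).card = n - 3 := by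
    rw [hone, Finset.card_univ_sdiff, Finset.card_eq_three.2 ⟨i0, i1, i2, h01, h02, h12, rfl⟩, Fintype.card_fin]
  have hcz : (Finset.univ.filter fun i => w i = ζ).card = 2 := by rw [hzeta, Finset.card_pair h01]
  refine ⟨w, 1, ?_, hwr, fun c hc => ?_, fun A ε hA hε => ?_⟩
  · have e : ∏ i, w i = ∏ i ∈ ({i0, i1, i2} : Finset (Fin n)), w i := by
      refine (Finset.prod_subset (Finset.subset_univ _) fun i _ hi => ?_).symm
      simp only [i0, i1, i2, Finset.mem_insert, Finset.mem_singleton, Fin.ext_iff] at hi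
      simp only [hw]
      rw [if_neg (by omega), if_neg (by omega)]
    rw [e, Finset.prod_insert (by simp [h01, h02]), Finset.prod_insert (by simp [h12]), Finset.prod_singleton]
    simp only [hw, i0, i1, i2]
    norm_num
    rw [← mul_assoc, ← pow_two, ← pow_add, Nat.add_sub_cancel' (by omega), hζr]
  · have e0 := congrFun (congrFun hc i0) i0
    have e2 := congrFun (congrFun hc i2) i2
    simp [hw, i0, i2] at e0 e2
    exact hne4 (e2.trans e0.symm)
  · refine not_twist_diag hA hε hw0 (u₁ := 1) (u₂ := ζ) ⟨i0, by simp [hw, i0]⟩ (fun v hv => ?_) (fun v hv hv' => ?_) ?_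
    · rw [hc1]
      by_cases h : v = ζ
      · subst h; omega
      · have := hother v hv h; omega
    · have := hother v hv hv'; omega
    · rw [map_one, one_mul, mul_one]
      exact fun e => hζ1 (hσ ζ hζr e.symm)

end diag

end Cfsg.Agent.Subfield77
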